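import Groth.Agent.Lib.ModSS29.ChangeRings
import Groth.Agent.Lib.TensorMod.Basic
import Groth.Agent.Lib.ExtLin.SplitCx
import Groth.Agent.Lib.SpecSeq.HomExt
import Groth.Agent.Lib.DerivedOX.Grothendieck
import Mathlib.CategoryTheory.Abelian.Injective.Ext

/-!
# `Ext^c(ι_* F, G) = Hom(F, ω)` when the lower Ext sheaves vanish

For a closed immersion `ι : X → P`, if `ℰxt^q(ι_*O_X, G) = 0` for `q < c` and `ι_*ω ≅ ℰxt^c(ι_*O_X, G)`
then there is a class `u ∈ Ext^c(ι_*ω, G)` such that `φ ↦ u ∘ ι_*φ` is bijective.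
-/

set_option autoImplicit false
set_option linter.style.haveILetI false
universe u

noncomputable section

open CategoryTheory CategoryTheory.Limits AlgebraicGeometry
open scoped ZeroObject

namespace Groth.Agent.Lib.ProjDualExt.Adj

open CategoryTheory.Abelian
open Groth.Agent.Lib Groth.Agent.Lib.ModSS29

variable {X P : Scheme.{u}} (ι : X ⟶ P) [IsClosedImmersion ι]

/-- `O ⊗ M` pushed forward is the direct image of `M`. -/
def psiIso : ChangeRings.psi ι (Coh.structureModule X) ≅ Scheme.Modules.pushforward ι :=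
  Functor.isoWhiskerRight
    (NatIso.ofComponents (fun M => TensorMod.Basic.leftUnit M)
      (fun f => TensorMod.Basic.leftUnit_natural f) :
      Modules.DualAdj.tensorL (Coh.structureModule X) ≅ 𝟭 X.Modules)
    (Scheme.Modules.pushforward ι) ≪≫ Functor.leftUnitor _

/-- The right adjoint of the direct image. -/
abbrev R : P.Modules ⥤ X.Modules := ChangeRings.phi ι (Coh.structureModule X)

/-- `ι_* ⊣ R`. -/
def adj : Scheme.Modules.pushforward ι ⊣ R ι :=
  (ChangeRings.phiAdj ι (Coh.structureModule X)).ofNatIsoLeft (psiIso ι)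

theorem injective_obj (I : P.Modules) [Injective I] : Injective ((R ι).obj I) :=
  haveI := ChangeRings.preservesHomology_push ι
  haveI : (Scheme.Modules.pushforward ι).IsRightAdjoint :=
    (Scheme.Modules.pullbackPushforwardAdjunction ι).isRightAdjoint
  haveI : (Scheme.Modules.pushforward ι).PreservesMonomorphisms := inferInstance
  haveI := Functor.preservesInjectiveObjects_of_adjunction_of_preservesMonomorphisms (adj ι)
  (R ι).injective_obj I

variable [ModSite.HasSheafHom (O := P.sheaf) ((Scheme.Modules.pushforward ι).obj (Coh.structureModule X))]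
  [HasInjectiveResolutions (ModSite.Mod P.sheaf)] [HasExt.{u} P.Modules]

/-- The universal class. -/
theorem exists_universal (G : P.Modules) (c : ℕ)
    (hlow : ∀ q < c, IsZero ((ModSite.extSh (O := P.sheaf)
      ((Scheme.Modules.pushforward ι).obj (Coh.structureModule X)) q).obj G))
    (ω : X.Modules)
    (hω : Nonempty ((Scheme.Modules.pushforward ι).obj ω ≅ (ModSite.extSh (O := P.sheaf)
      ((Scheme.Modules.pushforward ι).obj (Coh.structureModule X)) c).obj G)) :
    ∃ u : Ext.{u} ((Scheme.Modules.pushforward ι).obj ω) G c, ∀ F : X.Modules,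
      Function.Bijective fun φ : F ⟶ ω =>
        (Ext.mk₀ ((Scheme.Modules.pushforward ι).map φ)).comp u (zero_add c) := by
  haveI : HasInjectiveResolutions P.Modules := ‹HasInjectiveResolutions (ModSite.Mod P.sheaf)›
  haveI := ChangeRings.preservesHomology_push ι
  haveI : (Scheme.Modules.pushforward ι).Additive := inferInstance
  let I := injectiveResolution G
  let J : CochainComplex X.Modules ℕ := ((R ι).mapHomologicalComplex _).obj I.cocomplex
  have hJ : ∀ n, Injective (J.X n) := fun n => injective_obj ι (I.cocomplex.X n)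
  have hex : ∀ i < c, J.ExactAt i := fun i hi => by
    rw [HomologicalComplex.exactAt_iff_isZero_homology]
    have hz : Nonempty ((Scheme.Modules.pushforward ι).obj (0 : X.Modules) ≅ (ModSite.extSh (O := P.sheaf)
        ((Scheme.Modules.pushforward ι).obj (Coh.structureModule X)) i).obj G) :=
      ⟨((Scheme.Modules.pushforward ι).map_isZero (isZero_zero _)).iso (hlow i hi)⟩
    obtain ⟨e⟩ := ChangeRings.nonempty_rightDerived_phi ι (Coh.structureModule X) G i 0 hz
    exact (isZero_zero _).of_iso ((I.isoRightDerivedObj (R ι) i).symm ≪≫ e)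
  obtain ⟨e⟩ := ChangeRings.nonempty_rightDerived_phi ι (Coh.structureModule X) G c ω hω
  let e' : ω ≅ J.homology c := e.symm ≪≫ I.isoRightDerivedObj (R ι) c
  obtain ⟨s, hs, hdec, huniq⟩ := ExtLin.SplitCx.exists_section J hJ c hex
  let H : ∀ (F : X.Modules) (n : ℕ), ((Scheme.Modules.pushforward ι).obj F ⟶ I.cocomplex.X n) ≃ (F ⟶ J.X n) :=
    fun F n => (adj ι).homEquiv F (I.cocomplex.X n)
  have hd : ∀ {F : X.Modules} (n m : ℕ) (g : F ⟶ J.X n),
      (H F n).symm g ≫ I.cocomplex.d n m = (H F m).symm (g ≫ J.d n m) := fun n m g =>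
    ((adj ι).homEquiv_naturality_right_symm g (I.cocomplex.d n m)).symm
  have hzero : ∀ {F : X.Modules} (n : ℕ), (H F n).symm (0 : F ⟶ J.X n) = 0 := fun n => by
    show ((adj ι).homEquiv _ _).symm 0 = 0
    rw [Adjunction.homEquiv_counit, Functor.map_zero, zero_comp]
  let f := (H ω c).symm (e'.hom ≫ s)
  have hf : f ≫ I.cocomplex.d c (c + 1) = 0 := by
    rw [hd, Category.assoc, hs, comp_zero, hzero]
  refine ⟨I.extMk f (c + 1) rfl hf, fun F => ?_⟩
  have hval : ∀ φ : F ⟶ ω,
      (Ext.mk₀ ((Scheme.Modules.pushforward ι).map φ)).comp (I.extMk f (c + 1) rfl hf) (zero_add c) =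
        I.extMk ((H F c).symm (φ ≫ e'.hom ≫ s)) (c + 1) rfl
          (by rw [hd, Category.assoc, Category.assoc, hs, comp_zero, comp_zero, hzero]) := fun φ => by
    rw [I.mk₀_comp_extMk]
    congr 1
  constructor
  · intro φ ψ h
    rw [← sub_eq_zero]
    have h0 : (Ext.mk₀ ((Scheme.Modules.pushforward ι).map (φ - ψ))).comp
        (I.extMk f (c + 1) rfl hf) (zero_add c) = 0 := by
      change (Ext.mk₀ ((Scheme.Modules.pushforward ι).map φ)).comp _ _ =
        (Ext.mk₀ ((Scheme.Modules.pushforward ι).map ψ)).comp _ _ at h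
      rw [Functor.map_sub, ← sub_eq_zero.2 h, sub_eq_add_neg ((Scheme.Modules.pushforward ι).map φ),
        Ext.mk₀_add, Ext.mk₀_neg, Ext.add_comp, Ext.neg_comp, sub_eq_add_neg]
    rw [hval] at h0
    have : ∃ η : F ⟶ J.X (c - 1), (φ - ψ) ≫ e'.hom ≫ s = η ≫ J.d (c - 1) c := by
      cases c with
      | zero =>
        refine ⟨0, ?_⟩
        have := SpecSeq.HomExt.eq_zero_of_extMk_eq_zero I _ _ h0
        rw [zero_comp]
        exact (H F 0).symm.injective (this.trans (hzero 0).symm)
      | succ c =>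
        obtain ⟨g, hg⟩ := (I.extMk_eq_zero_iff _ _ rfl _ c rfl).1 h0
        refine ⟨H F c g, (H F (c + 1)).symm.injective ?_⟩
        show _ = (H F (c + 1)).symm (H F c g ≫ J.d c (c + 1))
        rw [← hd, Equiv.symm_apply_apply]
        exact hg.symm
    obtain ⟨η, hη⟩ := this
    have := huniq ((φ - ψ) ≫ e'.hom) η (by rw [Category.assoc]; exact hη)
    exact (cancel_mono e'.hom).1 (this.trans zero_comp.symm)
  · intro α
    obtain ⟨g, hg, rfl⟩ := I.extMk_surjective α (c + 1) rfl
    have hg' : H F c g ≫ J.d c (c + 1) = 0 := (H F (c + 1)).symm.injective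
      (by rw [← hd, Equiv.symm_apply_apply, hg, hzero])
    obtain ⟨φ, η, hη⟩ := hdec (H F c g) hg'
    refine ⟨φ ≫ e'.inv, ?_⟩
    refine (hval _).trans ?_
    simp only [Category.assoc, Iso.inv_hom_id_assoc]
    have hsum : g = (H F c).symm (φ ≫ s) + (H F (c - 1)).symm η ≫ I.cocomplex.d (c - 1) c := by
      rw [hd]
      conv_lhs => rw [← (H F c).symm_apply_apply g, hη]
      show ((adj ι).homEquiv _ _).symm (_ + _) = _
      rw [Adjunction.homEquiv_counit, Functor.map_add, Preadditive.add_comp]
      simp only [H, Adjunction.homEquiv_counit]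
      rfl
    have hzero' : I.extMk ((H F (c - 1)).symm η ≫ I.cocomplex.d (c - 1) c) (c + 1) rfl
        (by rw [Category.assoc, I.cocomplex.d_comp_d, comp_zero]) = 0 := by
      cases c with
      | zero =>
        simp only [show I.cocomplex.d (0 - 1) 0 = 0 from I.cocomplex.shape _ _ (by simp), comp_zero]
        exact I.extMk_zero _ rfl
      | succ c => exact (I.extMk_eq_zero_iff _ _ rfl _ c rfl).2 ⟨_, rfl⟩
    calc I.extMk ((H F c).symm (φ ≫ s)) (c + 1) rfl _
        = I.extMk ((H F c).symm (φ ≫ s)) (c + 1) rfl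
            (by rw [hd, Category.assoc, hs, comp_zero, hzero]) +
          I.extMk ((H F (c - 1)).symm η ≫ I.cocomplex.d (c - 1) c) (c + 1) rfl
            (by rw [Category.assoc, I.cocomplex.d_comp_d, comp_zero]) := by rw [hzero', add_zero]
      _ = I.extMk g (c + 1) rfl hg := by rw [I.add_extMk]; simp only [← hsum]

end Groth.Agent.Lib.ProjDualExt.Adj
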