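import Groth.Agent.Lib.ExtShStalk.Cor
import Groth.Agent.Lib.ProjCoh.ClosedSub
import Groth.Agent.Lib.ProjCoh.TwistVanish
import Groth.Agent.Lib.ProjCoh.DualityCM
import Groth.Agent.Lib.DerivedOX.Grothendieck
import Groth.Agent.S11155
import Mathlib.CategoryTheory.Abelian.GrothendieckCategory.HasExt

/-!
# `H^p(X, O_X(-m)) = 0` for `m ≫ 0` and the Ext sheaves `ℰxt^{N-p}(ι_* O_X, ω_P)`
-/

set_option autoImplicit false
set_option linter.style.haveILetI false
universe u

noncomputable section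

open CategoryTheory CategoryTheory.Limits AlgebraicGeometry

namespace Groth.Agent.Lib.ProjDualExt.Twist

open Groth.Agent.Lib Groth.Agent.Lib.ProjCoh Groth.Agent.Lib.ProjCoh.Coherent
open ClosedSub (tX)


/-- The stalk of an invertible module is the local ring. -/
theorem nonempty_stalk_equiv {X : Scheme.{u}} {L : X.Modules} (hL : PicF.IsInvertible L) (x : X) :
    Nonempty (L.presheaf.stalk x ≃ₗ[X.presheaf.stalk x] X.presheaf.stalk x) := by
  obtain ⟨U, e, hx, he⟩ := TensorMod.Gen.isInvertible_iff.1 hL x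
  exact ⟨(LinearEquiv.ofBijective (LinearMap.toSpanSingleton _ _ (L.presheaf.germ U x hx e))
    (H34.UFDExt.Gen.IsGen.stalk_bijective (M := L) (fun W h => he W h) hx)).symm⟩

variable {N : ℕ} {k : Type u} [Field k] {X : Scheme.{u}} (ι : X ⟶ CohB1.ProjSpace N k) [IsClosedImmersion ι]

local notation "ℙ" => CohB1.ProjSpace N k

/-- The pushforward of the structure module. -/
abbrev pushO : (CohB1.ProjSpace N k).Modules := (Scheme.Modules.pushforward ι).obj (Coh.structureModule X)

theorem isCoh_pushO : Coh.IsCoh (pushO ι) :=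
  haveI := ClosedSub.isLocallyNoetherian ι
  Cyc.Dev.SchemeEquiv.isCoh_push ι RefHull.Reflexive.isCoh_structure

/-- Injective modules on `P^N_k` have injective stalks. -/
theorem injStalk (x : CohB1.ProjSpace N k) : ExtShStalk.Cor.InjStalk (X := CohB1.ProjSpace N k) x :=
  fun I hI => Groth.Agent.S11155.result I hI x

variable [ModSite.HasSheafHom (O := (CohB1.ProjSpace N k).sheaf) (pushO ι)]
  [HasInjectiveResolutions (ModSite.Mod (CohB1.ProjSpace N k).sheaf)]

/-- `H^p(X, O_X(-m)) = 0` for `m ≫ 0` iff `ℰxt^j(ι_*O_X, ω_P) = 0`, for `p + j = N`. -/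
theorem twist_iff_isZero {p j : ℕ} (h : p + j = N) :
    (∃ m₀ : ℤ, ∀ m : ℤ, m₀ ≤ m → Subsingleton (Coh.HH X (tX ι (-m)) p)) ↔
      IsZero ((ModSite.extSh (O := (CohB1.ProjSpace N k).sheaf) (pushO ι) j).obj
        (tw N k (-((N : ℤ) + 1)))) := by
  haveI := ClosedSub.isLocallyNoetherian ι
  letI : X.Over (Spec (CommRingCat.of k)) := ⟨ι ≫ CohB1.ProjSpace.toSpec N k⟩
  have e1 : ∀ m : ℤ, Subsingleton (Coh.HH X (tX ι (-m)) p) ↔
      Subsingleton (Coh.HH ℙ (CohB1.tensorMod (pushO ι) (tw N k (-m))) p) := fun m =>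
    (Curves.LES.isoK k (TensorMod.Basic.leftUnit (tX ι (-m))) p).toEquiv.subsingleton_congr.symm.trans
      (ClosedSub.subsingleton_twist_iff ι (Coh.structureModule X) RefHull.Reflexive.isCoh_structure (-m) p)
  refine ((exists_congr fun m₀ => forall_congr' fun m => imp_congr_right fun _ => e1 m).trans
    (TwistVanish.twist_iff h _ (isCoh_pushO ι))).trans ?_
  rw [ExtShStalk.Cor.isZero_iff _ (isCoh_pushO ι) injStalk]
  have e2 : ∀ x : ℙ, HomSheaf.Ext.StalkExtVanish x j (pushO ι) ↔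
      Subsingleton (Abelian.Ext.{u}
        (ModuleCat.of ((CohB1.ProjSpace N k).presheaf.stalk x) ((pushO ι).presheaf.stalk x))
        (ModuleCat.of ((CohB1.ProjSpace N k).presheaf.stalk x)
          ((tw N k (-((N : ℤ) + 1))).presheaf.stalk x)) j) := fun x => by
    obtain ⟨e⟩ := nonempty_stalk_equiv (isInvertible_tw (n := N) (R := k) (-((N : ℤ) + 1))) x
    exact (ExtLin.Congr.extCongr ((CohB1.ProjSpace N k).presheaf.stalk x) (Iso.refl _) e.symm.toModuleIso j)
      |>.toEquiv.subsingleton_congr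
  exact ⟨fun hv x => (e2 x).1 ((TwistVanish.main j _ (isCoh_pushO ι)).1 hv x),
    fun hv => (TwistVanish.main j _ (isCoh_pushO ι)).2 fun x _ => (e2 x).2 (hv x)⟩

end Groth.Agent.Lib.ProjDualExt.Twist
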