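import Groth.Agent.Lib.ProjDualExt.Pairing
import Groth.Agent.Lib.ProjDualExt.Adj
import Groth.Agent.Lib.ProjDualExt.Twist
import Groth.Agent.Lib.ExtShStalk.Coh
import Groth.Agent.Lib.ExtShStalk.Zero
import Groth.Agent.Lib.ZarCoh.Linear

/-!
# `ℰxt^{N-n}(ι_*O_X, ω_P)` is dualizing on a closed subscheme of `P^N_k`
-/

set_option autoImplicit false
set_option linter.style.haveILetI false
universe u

noncomputable section

open CategoryTheory CategoryTheory.Limits AlgebraicGeometry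

namespace Groth.Agent.Lib.ProjDualExt.Dualizing

open CategoryTheory.Abelian
open Groth.Agent.Lib Groth.Agent.Lib.ProjCoh Groth.Agent.Lib.ProjCoh.Coherent

variable {N : ℕ} {k : Type u} [Field k] {X : Scheme.{u}} (ι : X ⟶ CohB1.ProjSpace N k) [IsClosedImmersion ι]

local notation "ℙ" => CohB1.ProjSpace N k
local notation "𝒪ₚ" => Coh.structureModule (CohB1.ProjSpace N k)
local notation "push" => Scheme.Modules.pushforward ι
local notation "ωP" => tw N k (-((N : ℤ) + 1))

theorem exists_presentation (M : (CohB1.ProjSpace N k).Modules) (hM : Coh.IsCoh M) :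
    ∃ S : ShortComplex (CohB1.ProjSpace N k).Modules,
      S.ShortExact ∧ Coh.IsCoh S.X₁ ∧ FlatMod.IsFinLocFree S.X₂ ∧ S.X₃ = M := by
  obtain ⟨c, m, S, hS, h1, h2, h3⟩ := Coherent.exists_shortExact M hM
  obtain ⟨e⟩ := nonempty_freeMod_tensor (n := N) (R := k) c (-(m : ℤ))
  exact ⟨S, hS, h1, h2 ▸ TensorMod.LocFree.of_iso e (TensorMod.LocFree.isFinLocFree_tensorMod
    (TensorMod.LocFree.of_rank (TensorMod.LocFree.isFinLocFree_freeMod _ c))
    (TensorMod.LocFree.of_rank (TensorMod.LocFree.of_isInvertible (isInvertible_tw _)))), h3⟩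

variable [ModSite.HasSheafHom (O := (CohB1.ProjSpace N k).sheaf) (Twist.pushO ι)]
  [HasInjectiveResolutions (ModSite.Mod (CohB1.ProjSpace N k).sheaf)]

/-- A module with the direct image of an Ext sheaf is coherent. -/
theorem isCoh_omega {c : ℕ} {ω : X.Modules}
    (hω : Nonempty ((Scheme.Modules.pushforward ι).obj ω ≅
      (ModSite.extSh (O := (CohB1.ProjSpace N k).sheaf) (Twist.pushO ι) c).obj ωP)) :
    Coh.IsCoh ω := by
  haveI := ClosedSub.isLocallyNoetherian ι
  have hE := ExtShStalk.Coh.isCoh (X := CohB1.ProjSpace N k) exists_presentation ωP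
    (isCoh_tw _) c (Twist.pushO ι) (Twist.isCoh_pushO ι)
  haveI := Cyc.Dev.SchemeCase.isIso_counit ι ω
  exact CohBasics.Closure.isCoh_of_iso (asIso ((Scheme.Modules.pullbackPushforwardAdjunction ι).counit.app ω))
    (Cyc.FP.Stalk.isCoh_pullback ι (CohBasics.Closure.isCoh_of_iso hω.some.symm hE))

/-- `ω` is dualizing. -/
theorem exists_dualizing [X.Over (Spec (CommRingCat.of k))]
    (hι : ι ≫ CohB1.ProjSpace.toSpec N k = X ↘ Spec (CommRingCat.of k)) {n c : ℕ} (hnc : c + n = N)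
    (hdim : topologicalKrullDim X ≤ (n : WithBot ℕ∞)) (ω : X.Modules)
    (hω : Nonempty ((Scheme.Modules.pushforward ι).obj ω ≅
      (ModSite.extSh (O := (CohB1.ProjSpace N k).sheaf) (Twist.pushO ι) c).obj ωP)) :
    ∃ t : Coh.HH X ω n →ₗ[k] k, DualityCM.IsDualizing ω t := by
  haveI := ClosedSub.isLocallyNoetherian ι
  have hlow : ∀ q < c, IsZero ((ModSite.extSh (O := (CohB1.ProjSpace N k).sheaf) (Twist.pushO ι) q).obj ωP) :=
    fun q hq => ExtShStalk.Zero.isZero_extSh (CohB1.ProjSpace.toSpec N k) ι Twist.injStalk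
      (WeilExt.Basic.isRegularLocalRing_stalk (CohB1.ProjSpace.toSpec N k))
      (ExtShStalk.Zero.projSpace_components N k) (r := c)
      ((add_le_add hdim le_rfl).trans (le_of_eq (by rw [← Nat.cast_add]; exact congrArg _ (by omega))))
      _ (TensorMod.LocFree.of_rank (TensorMod.LocFree.of_isInvertible (isInvertible_tw _))) hq
  obtain ⟨u, hu⟩ := Adj.exists_universal ι ωP c hlow ω hω
  have hωc : Coh.IsCoh ω := isCoh_omega ι hω
  -- `H^n(X, F) ≅ Ext^n(O, ι_* F)`
  let Γ : ∀ (F : X.Modules) [F.IsQuasicoherent],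
      Ext.{u} 𝒪ₚ ((Scheme.Modules.pushforward ι).obj F) n ≃ₗ[k] Coh.HH X F n := fun F _ =>
    ExtHH.Basic.extUnitEquiv k ((Scheme.Modules.pushforward ι).obj F) n ≪≫ₗ
      ZarCoh.Linear.affineLinearEquiv ι hι F n
  have hΓ : ∀ (F G : X.Modules) [F.IsQuasicoherent] [G.IsQuasicoherent] (φ : F ⟶ G)
      (x : Ext.{u} 𝒪ₚ ((Scheme.Modules.pushforward ι).obj F) n),
      Γ G (x.comp (Ext.mk₀ ((Scheme.Modules.pushforward ι).map φ)) (add_zero n)) =
        Sheaf.H.map ((SheafOfModules.toSheaf X.ringCatSheaf).map φ) n (Γ F x) := fun F G _ _ φ x => by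
    refine (congrArg (ZarCoh.Linear.affineLinearEquiv ι hι G n)
      (Pairing.extUnitEquiv_natural k ((Scheme.Modules.pushforward ι).map φ) n x)).trans ?_
    exact ZarCoh.PushH.pushH_natural ι.base ((SheafOfModules.toSheaf X.ringCatSheaf).map φ) n _
  haveI := hωc.1
  refine ⟨(Pairing.Φ (Pairing.τ N k) (show n + c = N by omega) _ u).comp (Γ ω).symm.toLinearMap,
    fun F hF ψ => ?_⟩
  haveI := hF.1
  have hpush := Cyc.Dev.SchemeEquiv.isCoh_push ι hF
  obtain ⟨α, hα⟩ := (Pairing.bijective_proj N k (show n + c = N by omega) _ hpush).2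
    (ψ.comp (Γ F).toLinearMap)
  obtain ⟨φ, rfl⟩ := (hu F).2 α
  have key : ∀ (χ : F ⟶ ω) (x : Ext.{u} 𝒪ₚ ((Scheme.Modules.pushforward ι).obj F) n),
      Pairing.Φ (Pairing.τ N k) (show n + c = N by omega) _
        ((Ext.mk₀ ((Scheme.Modules.pushforward ι).map χ)).comp u (zero_add c)) x =
      Pairing.Φ (Pairing.τ N k) (show n + c = N by omega) _ u
        ((Γ ω).symm (Sheaf.H.map ((SheafOfModules.toSheaf X.ringCatSheaf).map χ) n (Γ F x))) := fun χ x => by
    rw [← hΓ, LinearEquiv.symm_apply_apply]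
    exact Pairing.Φ_comp _ _ _ _ (zero_add c) (add_zero n) u x
  refine ⟨φ, fun x => ?_, fun χ hχ => ?_⟩
  · obtain ⟨y, rfl⟩ := (Γ F).surjective x
    exact (LinearMap.congr_fun hα y).symm.trans (key φ y)
  · refine (hu F).1 ((Pairing.bijective_proj N k (show n + c = N by omega) _ hpush).1 ?_)
    rw [hα]
    exact LinearMap.ext fun y => (key χ y).trans (hχ _).symm

end Groth.Agent.Lib.ProjDualExt.Dualizing
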