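import Groth.Agent.Lib.TopDim.Basic
import Mathlib.Topology.Irreducible

/-!
# The dimension of a space whose components have bounded dimension
-/

set_option autoImplicit false

namespace Groth.Agent.Lib.ProjDualExt.Dim

open Groth.Agent.Lib

theorem topologicalKrullDim_le_of_components {X : Type*} [TopologicalSpace X] {d : WithBot ℕ∞}
    (h : ∀ Z : Set X, Z ∈ irreducibleComponents X → topologicalKrullDim Z ≤ d) :
    topologicalKrullDim X ≤ d := iSup_le fun s => by
  obtain ⟨Z, hZ, hsZ⟩ := exists_mem_irreducibleComponents_subset_of_isIrreducible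
    (s.last : Set X) s.last.isIrreducible
  exact (TopDim.Basic.length_le_of_last_subset s hsZ).trans (h Z hZ)

end Groth.Agent.Lib.ProjDualExt.Dim
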