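import Groth.Agent.Lib.ExtShStalk.Top
import Groth.Agent.Lib.ExtShStalk.Cor
import Groth.Agent.Lib.ExtShStalk.DimBound
import Groth.Agent.Lib.ProjDualExt.Twist
import Groth.Agent.Lib.ProjDualExt.Dim
import Groth.Agent.Lib.StalkLoc.AssStalk

/-!
# `ω = ℰxt^c(ι_*O_X, E)` near the generic points of `X`
-/

set_option autoImplicit false
set_option linter.style.haveILetI false
universe u

open CategoryTheory CategoryTheory.Limits AlgebraicGeometry IsLocalRing

noncomputable section

namespace Groth.Agent.Lib.ProjDualExt.Generic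

open Groth.Agent.Lib Groth.Agent.Lib.Modules
open Groth.Agent.Lib.ExtShStalk

variable {P X : Scheme.{u}} [IsLocallyNoetherian P] (ι : X ⟶ P) [IsClosedImmersion ι]
  [ModSite.HasSheafHom (O := P.sheaf) ((Scheme.Modules.pushforward ι).obj (Coh.structureModule X))]
  [HasInjectiveResolutions (ModSite.Mod P.sheaf)]

/-- The stalk of `ι_* O_X`. -/
abbrev MP (x : X) : Type u :=
  ((Scheme.Modules.pushforward ι).obj (Coh.structureModule X)).presheaf.stalk (ι.base x)

omit [IsLocallyNoetherian P] [HasInjectiveResolutions (ModSite.Mod P.sheaf)]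
  [ModSite.HasSheafHom (O := P.sheaf) ((Scheme.Modules.pushforward ι).obj (Coh.structureModule X))] in
theorem nonempty_MP_equiv (x : X) :
    letI := (ι.stalkMap x).hom.toAlgebra
    Nonempty (MP ι x ≃ₗ[P.presheaf.stalk (ι.base x)] X.presheaf.stalk x) := by
  letI := (ι.stalkMap x).hom.toAlgebra
  obtain ⟨e'⟩ := Cyc.SheafLen.exists_unit_stalk_equiv x
  exact ⟨LinearEquiv.ofBijective
    ({ toFun := fun a => e' (DerivedOX.PullbackStalk.pushStalkMap ι x (Coh.structureModule X) a)
       map_add' := fun a b => (congrArg e' (map_add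
         (DerivedOX.PullbackStalk.pushStalkMap ι x (Coh.structureModule X)).hom a b)).trans (map_add e' _ _)
       map_smul' := fun c a => (congrArg e'
         (DerivedOX.PullbackStalk.pushStalkMap_smul ι x (Coh.structureModule X) c a)).trans (map_smul e' _ _) } :
      MP ι x →ₗ[P.presheaf.stalk (ι.base x)] X.presheaf.stalk x)
    (e'.bijective.comp (PushClosed.Unit.bijective_pushStalkMap ι (Coh.structureModule X) x))⟩

variable (hinj : ∀ p : P, Cor.InjStalk (X := P) p)
  (E : P.Modules) (hE : PicF.IsInvertible E) (c : ℕ) (ω : X.Modules)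
  (hω : Nonempty ((Scheme.Modules.pushforward ι).obj ω ≅ (ModSite.extSh (O := P.sheaf)
    ((Scheme.Modules.pushforward ι).obj (Coh.structureModule X)) c).obj E))

include hinj hE hω

/-- `ω_x ≅ Ext^c((ι_*O_X)_p, O_{P,p})`, semilinearly. -/
theorem exists_equiv (x : X) :
    ∃ e : ω.presheaf.stalk x ≃+ Abelian.Ext.{u} (ModuleCat.of (P.presheaf.stalk (ι.base x)) (MP ι x))
        (ModuleCat.of (P.presheaf.stalk (ι.base x)) (P.presheaf.stalk (ι.base x))) c,
      ∀ (a : P.presheaf.stalk (ι.base x)) (v : ω.presheaf.stalk x),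
        e ((ι.stalkMap x).hom a • v) = a • e v := by
  obtain ⟨iω⟩ := hω
  let M := (Scheme.Modules.pushforward ι).obj (Coh.structureModule X)
  let R := P.presheaf.stalk (ι.base x)
  obtain ⟨φ⟩ := Main.nonempty_equiv (ι.base x) (RingEquiv.refl R) M
    (Cyc.Dev.SchemeEquiv.isCoh_push ι RefHull.Reflexive.isCoh_structure) (hinj _) E c
  let r : ∀ N : ModuleCat.{u} R,
      (ModuleCat.restrictScalars (RingEquiv.refl R).toRingHom).obj N ≅ N := fun N =>
    (ModuleCat.restrictScalarsId'App (RingEquiv.refl R).toRingHom rfl N)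
  obtain ⟨eE⟩ := Twist.nonempty_stalk_equiv hE (ι.base x)
  let φ' := φ.trans (ExtLin.Congr.extCongr R (r _) (r _ ≪≫ eE.toModuleIso) c)
  let s := StalkModule.stalkMapₗ iω.hom (ι.base x)
  have hs : Function.Bijective s := (StalkModule.isIso_iff_stalkMapₗ_bijective iω.hom).1 inferInstance _
  let p : ((Scheme.Modules.pushforward ι).obj ω).presheaf.stalk (ι.base x) ≃+ ω.presheaf.stalk x :=
    AddEquiv.ofBijective (DerivedOX.PullbackStalk.pushStalkMap ι x ω).hom
      (PushClosed.Unit.bijective_pushStalkMap ι ω x)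
  refine ⟨(p.symm.trans (AddEquiv.ofBijective s.toAddMonoidHom hs)).trans φ'.toAddEquiv, fun a v => ?_⟩
  have hp : p.symm ((ι.stalkMap x).hom a • v) = a • p.symm v := p.injective <| by
    rw [AddEquiv.apply_symm_apply]
    refine Eq.symm ((DerivedOX.PullbackStalk.pushStalkMap_smul ι x ω a (p.symm v)).trans ?_)
    exact congrArg ((ι.stalkMap x).hom a • ·) (p.apply_symm_apply v)
  show φ' (s (p.symm _)) = a • φ' (s (p.symm v))
  rw [hp]
  exact (congrArg φ' (map_smul s a _)).trans (map_smul φ' a _)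

variable {k : Type u} [Field k] (f : P ⟶ Spec (CommRingCat.of k)) [LocallyOfFiniteType f]
  (hreg : ∀ p : P, IsRegularLocalRing (P.presheaf.stalk p)) {n r : ℕ} (hcr : c + r = n)
  (hP : ∀ Z : Set P, Z ∈ irreducibleComponents P → topologicalKrullDim Z = (n : WithBot ℕ∞))
  (hX : ∀ Z : Set X, Z ∈ irreducibleComponents X → topologicalKrullDim Z = (r : WithBot ℕ∞))

include f hreg hcr hP hX

/-- The associated points of `ω` are generic points. -/
theorem isMaxPt_of_mem_ass {z : X} (hz : z ∈ AssSch.Ass ω) : Cyc.DimFun.IsMaxPt z := by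
  haveI := hreg (ι.base z)
  haveI : IsLocallyNoetherian X := LocallyOfFiniteType.isLocallyNoetherian ι
  rw [← Cyc.DimFun.ringKrullDim_stalk_eq_zero_iff]
  by_contra h0
  obtain ⟨e, he⟩ := exists_equiv ι hinj E hE c ω hω z
  letI := (ι.stalkMap z).hom.toAlgebra
  obtain ⟨eM⟩ := nonempty_MP_equiv ι z
  haveI : Module.Finite (P.presheaf.stalk (ι.base z)) (MP ι z) :=
    RefHull.LocFree.finite_stalk (Cyc.Dev.SchemeEquiv.isCoh_push ι RefHull.Reflexive.isCoh_structure) _
  haveI : Module.Finite (P.presheaf.stalk (ι.base z)) (X.presheaf.stalk z) := Module.Finite.equiv eM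
  have hsupp : Module.supportDim (P.presheaf.stalk (ι.base z)) (MP ι z) = ringKrullDim (X.presheaf.stalk z) := by
    rw [Module.supportDim_eq_of_equiv eM, Module.supportDim_eq_ringKrullDim_quotient_annihilator,
      show Module.annihilator (P.presheaf.stalk (ι.base z)) (X.presheaf.stalk z) =
        RingHom.ker (ι.stalkMap z).hom from ?_]
    · exact ringKrullDim_eq_of_ringEquiv (RingHom.quotientKerEquivOfSurjective (ι.stalkMap_surjective z))
    · ext a
      rw [Module.mem_annihilator, RingHom.mem_ker]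
      exact ⟨fun h => (mul_one _).symm.trans (h 1),
        fun h b => (congrArg (· * b) h).trans (zero_mul b)⟩
  obtain ⟨D, hD⟩ : ∃ D : ℕ, ringKrullDim (X.presheaf.stalk z) = D := by
    obtain ⟨m, hm⟩ := WithBot.ne_bot_iff_exists.1 (ringKrullDim_ne_bot (R := X.presheaf.stalk z))
    obtain ⟨m', rfl⟩ := ENat.ne_top_iff_exists.1 (show m ≠ ⊤ by
      rintro rfl
      exact ringKrullDim_ne_top (R := X.presheaf.stalk z) hm.symm)
    exact ⟨m', hm.symm⟩
  have hD0 : D ≠ 0 := fun h => h0 (by rw [hD, h]; rfl)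
  have hXd := ProjDualExt.Dim.topologicalKrullDim_le_of_components fun Z hZ => (hX Z hZ).le
  have hle := DimBound.ringKrullDim_stalk_le (ι ≫ f) hXd z
  have hδ := DimBound.fdelta_le (ι ≫ f) hXd z
  have hge := DimBound.le_ringKrullDim_stalk f hP (ι.base z)
  rw [hD, Nat.cast_le, Vanish.fdelta_comp f ι z] at hle
  rw [Vanish.fdelta_comp f ι z] at hδ
  rw [Vanish.ringKrullDim_eq_depth, ← WithBot.coe_natCast, WithBot.coe_le_coe] at hge
  have hmem : maximalIdeal (X.presheaf.stalk z) ∈
      associatedPrimes (X.presheaf.stalk z) (ω.presheaf.stalk z) := hz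
  obtain ⟨v, hv0, hv⟩ : ∃ v : ω.presheaf.stalk z, v ≠ 0 ∧ ∀ b ∈ maximalIdeal (X.presheaf.stalk z), b • v = 0 := by
    obtain ⟨v, hv⟩ := (isAssociatedPrime_iff.1 hmem).2
    refine ⟨v, fun h => ?_, fun b hb => ?_⟩
    · exact (IsLocalRing.maximalIdeal.isMaximal _).ne_top (hv.trans (by
        simp [h, Submodule.colon_singleton_zero]))
    · rw [hv] at hb
      simpa [Submodule.mem_colon_singleton] using hb
  refine hv0 (e.injective ((Top.eq_zero_of_maximalIdeal_smul (MP ι z) (P.presheaf.stalk (ι.base z)) c D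
    (n - (Cyc.FieldDim.fdelta f (ι.base z)).toNat) (hsupp.trans hD) hD0 hge ?_ (e v) fun a ha => ?_).trans
      e.map_zero.symm))
  · change D ≤ r - (Cyc.FieldDim.fdelta f (ι z)).toNat at hle

    have := Cyc.FieldDim.fdelta_nonneg f (ι z)
    omega
  · haveI : IsLocalHom (ι.stalkMap z).hom := IsLocalHom.of_surjective _ (ι.stalkMap_surjective z)
    rw [← he, hv _ (map_nonunit (ι.stalkMap z).hom a ha), map_zero]

/-- `ω` has rank one at the generic points with reduced local ring. -/
theorem finrank_stalk (x : X) (hx : Cyc.DimFun.IsMaxPt x) (hred : _root_.IsReduced (X.presheaf.stalk x)) :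
    Module.finrank (X.presheaf.stalk x) (ω.presheaf.stalk x) = 1 := by
  haveI := hreg (ι.base x)
  have hA0 : ringKrullDim (X.presheaf.stalk x) = 0 :=
    (Cyc.DimFun.ringKrullDim_stalk_eq_zero_iff x).2 hx
  haveI : Ring.KrullDimLE 0 (X.presheaf.stalk x) := Ring.krullDimLE_iff.2 (hA0.le.trans_eq Nat.cast_zero.symm)
  have hF : IsField (X.presheaf.stalk x) := Ring.KrullDimLE.isField_of_isReduced
  letI := (ι.stalkMap x).hom.toAlgebra
  obtain ⟨eM⟩ := nonempty_MP_equiv ι x
  obtain ⟨e, he⟩ := exists_equiv ι hinj E hE c ω hω x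
  have hle := DimBound.ringKrullDim_stalk_le f
    (ProjDualExt.Dim.topologicalKrullDim_le_of_components fun Z hZ => (hP Z hZ).le) (ι.base x)
  have hge := DimBound.le_ringKrullDim_stalk f hP (ι.base x)
  have hXd := ProjDualExt.Dim.topologicalKrullDim_le_of_components fun Z hZ => (hX Z hZ).le
  have hδ := DimBound.fdelta_le (ι ≫ f) hXd x
  have hXge := DimBound.le_ringKrullDim_stalk (ι ≫ f) hX x
  rw [hA0, Vanish.fdelta_comp f ι x] at hXge
  rw [Vanish.fdelta_comp f ι x] at hδ
  have hδr : (Cyc.FieldDim.fdelta f (ι.base x)).toNat = r := by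
    have := Cyc.FieldDim.fdelta_nonneg f (ι x)
    have h1 : r - (Cyc.FieldDim.fdelta f (ι x)).toNat ≤ 0 := by exact_mod_cast hXge
    change (Cyc.FieldDim.fdelta f (ι x)).toNat = r
    omega
  have hd : ringKrullDim (P.presheaf.stalk (ι.base x)) = c := by
    refine le_antisymm (hle.trans_eq ?_) (le_trans ?_ hge)
    all_goals rw [hδr, show n - r = c by omega]
  have hker : RingHom.ker (ι.stalkMap x).hom = maximalIdeal (P.presheaf.stalk (ι.base x)) := by
    letI := hF.toField
    haveI : (RingHom.ker (ι.stalkMap x).hom).IsMaximal :=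
      RingHom.ker_isMaximal_of_surjective _ (ι.stalkMap_surjective x)
    exact IsLocalRing.eq_maximalIdeal inferInstance
  let eA : ResidueField (P.presheaf.stalk (ι.base x)) ≃ₗ[P.presheaf.stalk (ι.base x)] X.presheaf.stalk x :=
    Submodule.quotEquivOfEq _ _ (hker.symm.trans (show RingHom.ker (ι.stalkMap x).hom =
        LinearMap.ker (Algebra.linearMap (P.presheaf.stalk (ι.base x)) (X.presheaf.stalk x)) from rfl)) ≪≫ₗ
      (Algebra.linearMap (P.presheaf.stalk (ι.base x)) (X.presheaf.stalk x)).quotKerEquivOfSurjective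
        (ι.stalkMap_surjective x)
  haveI := Top.isSimpleModule_ext_residueField c hd
  haveI : IsSimpleModule (P.presheaf.stalk (ι.base x)) (Abelian.Ext.{u}
      (ModuleCat.of (P.presheaf.stalk (ι.base x)) (MP ι x))
      (ModuleCat.of (P.presheaf.stalk (ι.base x)) (P.presheaf.stalk (ι.base x))) c) :=
    IsSimpleModule.congr (ExtLin.Congr.extCongr (P.presheaf.stalk (ι.base x))
      (eA ≪≫ₗ eM.symm).toModuleIso (Iso.refl _) c).symm
  haveI := IsSimpleModule.nontrivial (P.presheaf.stalk (ι.base x)) (Abelian.Ext.{u}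
      (ModuleCat.of (P.presheaf.stalk (ι.base x)) (MP ι x))
      (ModuleCat.of (P.presheaf.stalk (ι.base x)) (P.presheaf.stalk (ι.base x))) c)
  obtain ⟨w, hw⟩ := exists_ne (0 : Abelian.Ext.{u}
      (ModuleCat.of (P.presheaf.stalk (ι.base x)) (MP ι x))
      (ModuleCat.of (P.presheaf.stalk (ι.base x)) (P.presheaf.stalk (ι.base x))) c)
  have hv0 : e.symm w ≠ 0 := fun h => hw (by simpa using congrArg e h)
  let L := LinearMap.toSpanSingleton (X.presheaf.stalk x) (ω.presheaf.stalk x) (e.symm w)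
  refine (LinearEquiv.ofBijective L ⟨?_, fun v => ?_⟩).finrank_eq.symm.trans (Module.finrank_self _)
  · intro a b hab
    rw [← sub_eq_zero]
    by_contra hne
    obtain ⟨d, hd⟩ := hF.mul_inv_cancel hne
    refine hv0 ?_
    calc e.symm w = ((a - b) * d) • e.symm w := by rw [hd, one_smul]
      _ = d • ((a - b) • e.symm w) := by rw [mul_comm, mul_smul]
      _ = 0 := by
        rw [show (a - b) • e.symm w = 0 from (sub_smul a b _).trans (sub_eq_zero.2 hab), smul_zero]
  · obtain ⟨a, ha⟩ := Submodule.mem_span_singleton.1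
      ((IsSimpleModule.span_singleton_eq_top (P.presheaf.stalk (ι.base x)) hw).symm ▸ Submodule.mem_top (x := e v))
    exact ⟨(ι.stalkMap x).hom a, e.injective ((he a (e.symm w)).trans (by rw [e.apply_symm_apply, ha]))⟩

variable [IsLocallyNoetherian X] [ω.IsQuasicoherent]

omit hinj hE hω f hreg hcr hP hX in
omit [IsLocallyNoetherian X] [IsLocallyNoetherian P] [IsClosedImmersion ι]
  [ModSite.HasSheafHom (O := P.sheaf) ((Scheme.Modules.pushforward ι).obj (Coh.structureModule X))]
  [HasInjectiveResolutions (ModSite.Mod P.sheaf)] in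
theorem mem_irreducibleComponents {z : X} (h : Cyc.DimFun.IsMaxPt z) :
    closure ({z} : Set X) ∈ irreducibleComponents X :=
  Cyc.FieldDim.closure_mem_irreducibleComponents z h

/-- `ω` is torsion free. -/
theorem torsion_eq_bot (x : X) : Submodule.torsion (X.presheaf.stalk x) (ω.presheaf.stalk x) = ⊥ := by
  rw [eq_bot_iff]
  intro v hv
  obtain ⟨a, ha⟩ := (Submodule.mem_torsion_iff v).1 hv
  rw [Submodule.mem_bot]
  by_contra hv0
  obtain ⟨q, hq, hle⟩ := exists_le_isAssociatedPrime_of_isNoetherianRing (X.presheaf.stalk x) v hv0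
  let qq : PrimeSpectrum (X.presheaf.stalk x) := ⟨q, hq.1⟩
  have hz := (StalkLoc.AssStalk.mem_associatedPrimes_stalk_iff x qq).mp hq
  have hmax := isMaxPt_of_mem_ass ι hinj E hE c ω hω f hreg hcr hP hX hz
  have haq : (a : X.presheaf.stalk x) ∈ q :=
    hle (by simpa [Submodule.mem_colon_singleton, Submonoid.smul_def] using ha)
  haveI := hq.1
  have hmin : q ∈ minimalPrimes (X.presheaf.stalk x) := by
    obtain ⟨p, hp, hpq⟩ := Ideal.exists_minimalPrimes_le (J := q) (I := ⊥) bot_le
    haveI := hp.1.1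
    have h1 : X.fromSpecStalk x ⟨p, hp.1.1⟩ ⤳ X.fromSpecStalk x qq :=
      (Cyc.DimFun.fromSpecStalk_specializes_iff x ⟨p, hp.1.1⟩ qq).2 hpq
    have h2 := congrArg PrimeSpectrum.asIdeal (Cyc.DimFun.fromSpecStalk_injective x (hmax _ h1))
    change p = q at h2
    exact h2 ▸ hp
  exact Set.disjoint_iff.mp (Ideal.disjoint_nonZeroDivisors_of_mem_minimalPrimes hmin) ⟨haq, a.2⟩

/-- A map to `ω` that vanishes near the generic points is zero. -/
theorem hom_eq_zero {F : X.Modules} (φ : F ⟶ ω)
    (hφ : ∀ x : X, closure ({x} : Set X) ∈ irreducibleComponents X →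
      ∃ U : X.Opens, x ∈ U ∧ ∀ (W : X.Opens) (_ : W ≤ U) (s : Γ(F, W)), φ.app W s = 0) : φ = 0 := by
  refine StalkModule.hom_ext_stalkMapₗ fun x => LinearMap.ext fun m => ?_
  rw [StalkModule.stalkMapₗ_zero, LinearMap.zero_apply]
  obtain ⟨W₀, hxW₀, s₀, rfl⟩ := TopCat.Presheaf.exists_germ_eq F.presheaf m
  obtain ⟨W, hW, hxW, hWW₀⟩ := exists_isAffineOpen_mem_and_subset (x := x) (U := W₀) hxW₀
  let s : Γ(F, W) := F.presheaf.map (homOfLE hWW₀).op s₀
  rw [← TopCat.Presheaf.germ_res_apply F.presheaf (homOfLE hWW₀) x hxW s₀]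
  rw [StalkModule.stalkMapₗ_germ]
  by_contra hne
  obtain ⟨z, hz, hass, hzx, hza⟩ :=
    StalkLoc.AssStalk.exists_ass_of_smul_eq_zero (M := ω) hxW _ hne
  obtain ⟨U, hzU, hU⟩ := hφ z (mem_irreducibleComponents
    (isMaxPt_of_mem_ass ι hinj E hE c ω hω f hreg hcr hP hX hass))
  have hzero : ω.presheaf.germ W z hz (φ.app W s) = 0 := by
    rw [← StalkModule.stalkMapₗ_germ φ hz s,
      ← TopCat.Presheaf.germ_res_apply F.presheaf (homOfLE (inf_le_left : W ⊓ U ≤ W)) z ⟨hz, hzU⟩ s,
      StalkModule.stalkMapₗ_germ, hU (W ⊓ U) inf_le_right _, map_zero]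
  obtain ⟨g, hgz, hg⟩ := (StalkLoc.Basic.germ_eq_zero_iff hW hz _).1 hzero
  refine hza g ?_ hgz
  exact (StalkModule.germ_smul hxW g _).symm.trans ((congrArg (ω.presheaf.germ W x hxW) hg).trans (map_zero _))

omit [IsLocallyNoetherian X] [IsLocallyNoetherian P] [IsClosedImmersion ι] [LocallyOfFiniteType f] [ω.IsQuasicoherent]
  [ModSite.HasSheafHom (O := P.sheaf) ((Scheme.Modules.pushforward ι).obj (Coh.structureModule X))]
  [HasInjectiveResolutions (ModSite.Mod P.sheaf)] hinj hE hω f hreg hcr hP hX in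
/-- A generic point of a component has no proper generalization. -/
theorem isMaxPt_of_closure_mem {x : X} (h : closure ({x} : Set X) ∈ irreducibleComponents X) :
    Cyc.DimFun.IsMaxPt x := fun y hy => by
  have h1 := h.2 (isIrreducible_singleton (x := y)).closure (specializes_iff_closure_subset.1 hy)
  exact (specializes_iff_closure_subset.2 h1).antisymm hy |>.eq.symm

end Groth.Agent.Lib.ProjDualExt.Generic
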