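import Groth.Agent.Lib.ProjCoh.DualityCM

/-!
# Serre duality as the Yoneda pairing

`Φ : Ext^i(M, ω) → (Ext^j(O, M))^∨`, `α ↦ τ (- ∘ α)`, is bijective for `i + j = n` when it is in degree `0`
and effacing short exact sequences exist.
-/

set_option autoImplicit false
set_option linter.style.haveILetI false
universe u

noncomputable section

open CategoryTheory CategoryTheory.Limits AlgebraicGeometry

namespace Groth.Agent.Lib.ProjDualExt.Pairing

open CategoryTheory.Abelian
open Groth.Agent.Lib Groth.Agent.Lib.ProjCoh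

section Abstract

variable {k : Type u} [Field k] {X : Scheme.{u}} [X.Over (Spec (CommRingCat.of k))] [HasExt.{u} X.Modules]
  {O ω : X.Modules} {n : ℕ} (τ : Ext.{u} O ω n →ₗ[k] k)

/-- The Yoneda pairing. -/
def Φ {i j : ℕ} (h : j + i = n) (M : X.Modules) (α : Ext.{u} M ω i) :
    Module.Dual k (Ext.{u} O M j) where
  toFun x := τ (x.comp α h)
  map_add' x y := by rw [Ext.add_comp, map_add]
  map_smul' r x := by rw [Ext.smul_comp, map_smul]; rfl

theorem Φ_add {i j : ℕ} (h : j + i = n) (M : X.Modules) (α β : Ext.{u} M ω i) :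
    Φ τ h M (α + β) = Φ τ h M α + Φ τ h M β :=
  LinearMap.ext fun x => show τ _ = _ by rw [Ext.comp_add, map_add]; rfl

theorem Φ_comp {i j a b c : ℕ} (h : j + i = n) (h' : b + c = n) {M N : X.Modules} (e : Ext.{u} M N a)
    (hb : a + c = i) (hjb : j + a = b) (α : Ext.{u} N ω c) (x : Ext.{u} O M j) :
    Φ τ h M (e.comp α hb) x = Φ τ h' N α (x.comp e hjb) :=
  congrArg τ (Ext.comp_assoc _ _ _ hjb hb (by omega)).symm

/-- Effacing sequences. -/
def Eff (O ω : X.Modules) (n : ℕ) : Prop :=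
  ∀ M : X.Modules, Coh.IsCoh M → ∃ S : ShortComplex X.Modules, S.ShortExact ∧ Coh.IsCoh S.X₁ ∧
    Coh.IsCoh S.X₂ ∧ S.X₃ = M ∧ (∀ q, q ≠ 0 → Subsingleton (Ext.{u} S.X₂ ω q)) ∧
    ∀ q, q < n → Subsingleton (Ext.{u} O S.X₂ q)

theorem bijective_step_zero {S : ShortComplex X.Modules} (hS : S.ShortExact) {j : ℕ} (h : j + 1 = n)
    (h1 : Function.Bijective (Φ τ (add_zero n) S.X₁)) (h2 : Function.Surjective (Φ τ (add_zero n) S.X₂))
    (hv : Subsingleton (Ext.{u} S.X₂ ω 1)) (hH : Subsingleton (Ext.{u} O S.X₂ j)) :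
    Function.Bijective (Φ τ h S.X₃) := by
  let δ : Ext.{u} O S.X₃ j →ₗ[k] Ext.{u} O S.X₁ n :=
    { toFun := fun x => x.comp hS.extClass h
      map_add' := fun x y => Ext.add_comp _ _ _ _
      map_smul' := fun r x => Ext.smul_comp _ _ _ _ }
  have hinj : Function.Injective δ := (injective_iff_map_eq_zero δ).2 fun x hx => by
    obtain ⟨y, rfl⟩ := Ext.covariant_sequence_exact₃ O hS x h hx
    rw [Subsingleton.elim y 0, Ext.zero_comp]
  constructor
  · intro α β e
    obtain ⟨a, rfl⟩ := SerreDual.surjective_pre k hS _ (add_zero 1) hv α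
    obtain ⟨b, rfl⟩ := SerreDual.surjective_pre k hS _ (add_zero 1) hv β
    have hv' : ∀ x ∈ LinearMap.range δ, (Φ τ (add_zero n) S.X₁ a - Φ τ (add_zero n) S.X₁ b) x = 0 := by
      rintro _ ⟨y, rfl⟩
      rw [LinearMap.sub_apply, sub_eq_zero]
      have := LinearMap.congr_fun e y
      exact (Φ_comp τ h (add_zero n) hS.extClass (add_zero 1) h a y).symm.trans
        (this.trans (Φ_comp τ h (add_zero n) hS.extClass (add_zero 1) h b y))
    let f : Ext.{u} O S.X₁ n →ₗ[k] Ext.{u} O S.X₂ n :=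
      { toFun := fun x => x.comp (Ext.mk₀ S.f) (add_zero n)
        map_add' := fun x y => Ext.add_comp _ _ _ _
        map_smul' := fun r x => Ext.smul_comp _ _ _ _ }
    have hker : LinearMap.ker f ≤ LinearMap.ker (Φ τ (add_zero n) S.X₁ a - Φ τ (add_zero n) S.X₁ b) :=
      fun x hx => by
        obtain ⟨y, hy⟩ := Ext.covariant_sequence_exact₁ O hS x hx h
        exact hv' x ⟨y, hy⟩
    have hmem : Φ τ (add_zero n) S.X₁ a - Φ τ (add_zero n) S.X₁ b ∈ (LinearMap.ker f).dualAnnihilator :=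
      (Submodule.mem_dualAnnihilator _).2 fun x hx => hker hx
    rw [← LinearMap.range_dualMap_eq_dualAnnihilator_ker] at hmem
    obtain ⟨g, hg⟩ := hmem
    obtain ⟨c, rfl⟩ := h2 g
    have hab : a = (Ext.mk₀ S.f).comp c (zero_add 0) + b := h1.1 <| by
      rw [Φ_add, ← sub_eq_iff_eq_add, ← hg]
      exact LinearMap.ext fun x =>
        (Φ_comp τ (add_zero n) (add_zero n) (Ext.mk₀ S.f) (zero_add 0) (add_zero n) c x).symm
    refine congrArg (fun t => hS.extClass.comp t (add_zero 1)) hab |>.trans ?_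
    rw [Ext.comp_add, ← Ext.comp_assoc _ _ _ (add_zero 1) (zero_add 0) (by omega), hS.extClass_comp,
      Ext.zero_comp, zero_add]
    rfl
  · intro ψ
    obtain ⟨l, hl⟩ := LinearMap.dualMap_surjective_of_injective hinj ψ
    obtain ⟨a, rfl⟩ := h1.2 l
    exact ⟨hS.extClass.comp a (add_zero 1),
      hl ▸ LinearMap.ext fun x => Φ_comp τ h (add_zero n) hS.extClass (add_zero 1) h a x⟩

theorem bijective_step_succ {S : ShortComplex X.Modules} (hS : S.ShortExact) {i j : ℕ} (h : j + (i + 1) = n)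
    (h1 : Function.Bijective (Φ τ (show (j + 1) + i = n by omega) S.X₁))
    (hv : Subsingleton (Ext.{u} S.X₂ ω i)) (hv' : Subsingleton (Ext.{u} S.X₂ ω (i + 1)))
    (hH : Subsingleton (Ext.{u} O S.X₂ j)) (hH' : Subsingleton (Ext.{u} O S.X₂ (j + 1))) :
    Function.Bijective (Φ τ h S.X₃) := by
  let δ : Ext.{u} O S.X₃ j →ₗ[k] Ext.{u} O S.X₁ (j + 1) :=
    { toFun := fun x => x.comp hS.extClass rfl
      map_add' := fun x y => Ext.add_comp _ _ _ _
      map_smul' := fun r x => Ext.smul_comp _ _ _ _ }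
  have hb : Function.Bijective δ := ⟨(injective_iff_map_eq_zero δ).2 fun x hx => by
      obtain ⟨y, rfl⟩ := Ext.covariant_sequence_exact₃ O hS x rfl hx
      rw [Subsingleton.elim y 0, Ext.zero_comp], fun y => by
      obtain ⟨x, hx⟩ := Ext.covariant_sequence_exact₁ O hS y (Subsingleton.elim _ _) rfl
      exact ⟨x, hx⟩⟩
  let pre := SerreDual.pre k hS.extClass ω (Nat.add_comm 1 i)
  have hpre : Function.Bijective pre :=
    ⟨SerreDual.injective_pre k hS _ _ hv, SerreDual.surjective_pre k hS _ _ hv'⟩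
  have key : Φ τ h S.X₃ ∘ pre = δ.dualMap ∘ Φ τ (show (j + 1) + i = n by omega) S.X₁ := funext fun a =>
    LinearMap.ext fun x => Φ_comp τ h _ hS.extClass (Nat.add_comm 1 i) rfl a x
  refine (Function.Bijective.of_comp_iff _ hpre).1 ?_
  rw [key]
  exact (LinearEquiv.ofBijective δ hb).dualMap.bijective.comp h1

/-- Duality. -/
theorem bijective (he : Eff O ω n)
    (h0 : ∀ M : X.Modules, Coh.IsCoh M → Function.Bijective (Φ τ (add_zero n) M)) (i : ℕ) :
    ∀ (j : ℕ) (h : j + i = n) (M : X.Modules), Coh.IsCoh M → Function.Bijective (Φ τ h M) := by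
  induction i with
  | zero => intro j h M hM; rw [add_zero] at h; subst h; exact h0 M hM
  | succ i ih =>
    intro j h M hM
    obtain ⟨S, hS, h1, h2, rfl, hv, hH⟩ := he M hM
    rcases Nat.eq_zero_or_pos i with rfl | hi
    · exact bijective_step_zero τ hS h (h0 _ h1) (h0 _ h2).2 (hv 1 one_ne_zero) (hH j (by omega))
    · exact bijective_step_succ τ hS h (ih (j + 1) (by omega) _ h1) (hv i hi.ne')
        (hv _ (Nat.succ_ne_zero i)) (hH j (by omega)) (hH _ (by omega))

end Abstract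

/-! ### Projective space -/

section Proj

open Groth.Agent.Lib.ProjCoh Groth.Agent.Lib.ProjCoh.Coherent

variable (n : ℕ) (k : Type u) [Field k] [HasExt.{u} (CohB1.ProjSpace n k).Modules]

/-- The trace on `Ext^n(O, O(-n-1))`. -/
def τ : Ext.{u} (Coh.structureModule (CohB1.ProjSpace n k)) (tw n k (-((n : ℤ) + 1))) n →ₗ[k] k :=
  (Duality.trTw n k).comp (ExtHH.Basic.extUnitEquiv k (tw n k (-((n : ℤ) + 1))) n).toLinearMap

theorem extUnitEquiv_natural {X : Scheme.{u}} [X.Over (Spec (CommRingCat.of k))] [HasExt.{u} X.Modules]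
    {Y Y' : X.Modules} (g : Y ⟶ Y') (q : ℕ) (x : Ext.{u} (Coh.structureModule X) Y q) :
    ExtHH.Basic.extUnitEquiv k Y' q (x.comp (Ext.mk₀ g) (add_zero q)) =
      Curves.LES.mapK k g q (ExtHH.Basic.extUnitEquiv k Y q x) :=
  ExtHH.Basic.extHH_comp_mk₀ (𝟭 X.Modules) (𝟙 _) g q x

theorem bijective_zero (M : (CohB1.ProjSpace n k).Modules) (hM : Coh.IsCoh M) :
    Function.Bijective (Φ (τ n k) (add_zero n) M) := by
  let e := ExtHH.Basic.extUnitEquiv k (Z := CohB1.ProjSpace n k) M n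
  let θ : (M ⟶ tw n k (-((n : ℤ) + 1))) → Module.Dual k (Coh.HH (CohB1.ProjSpace n k) M n) :=
    fun φ => (Duality.trTw n k).comp (Curves.LES.mapK k φ n)
  have hθ : Function.Bijective θ := by
    constructor
    · intro φ ψ h
      obtain ⟨χ, -, hu⟩ := Duality.existsUnique_hom_tw M hM (θ φ)
      exact (hu φ fun x => rfl).trans (hu ψ fun x => LinearMap.congr_fun h x).symm
    · intro l
      obtain ⟨φ, hφ, -⟩ := Duality.existsUnique_hom_tw M hM l
      exact ⟨φ, LinearMap.ext fun x => (hφ x).symm⟩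
  have key : Φ (τ n k) (add_zero n) M ∘ Ext.mk₀ = e.dualMap ∘ θ := funext fun φ => LinearMap.ext fun x =>
    congrArg (Duality.trTw n k) (extUnitEquiv_natural k φ n x)
  refine (Function.Bijective.of_comp_iff _ (Ext.mk₀_bijective _ _)).1 ?_
  rw [key]
  exact e.dualMap.bijective.comp hθ

theorem eff : Eff (Coh.structureModule (CohB1.ProjSpace n k)) (tw n k (-((n : ℤ) + 1))) n := by
  intro M hM
  obtain ⟨c, m, S, hm, hS, h1, h2, rfl⟩ := SerreDual.exists_resolution M hM 1
  refine ⟨S, hS, h1, h2 ▸ isCoh_sumTS c _, rfl, fun q hq => ?_, fun q hq => ?_⟩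
  · exact SerreDual.subsingleton_ext_iso (Iso.refl _) (twIso _) q (h2 ▸ SerreDual.subsingleton_ext_sumTS hm c hq)
  · have : Subsingleton (Coh.HH (CohB1.ProjSpace n k) S.X₂ q) := h2 ▸ SerreDual.subsingleton_HH_sumTS_lt hm c hq
    exact (ExtHH.Basic.extUnitEquiv k (Z := CohB1.ProjSpace n k) S.X₂ q).injective.subsingleton

/-- Serre duality as the pairing. -/
theorem bijective_proj {i j : ℕ} (h : j + i = n) (M : (CohB1.ProjSpace n k).Modules) (hM : Coh.IsCoh M) :
    Function.Bijective (Φ (τ n k) h M) :=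
  bijective (τ n k) (eff n k) (bijective_zero n k) i j h M hM

end Proj

end Groth.Agent.Lib.ProjDualExt.Pairing
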